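import Groth.Agent.H7Flat.Flatten.NagataB
import Groth.Agent.H7Flat.Flatten.Domin
import Groth.Agent.H17.Ample.OpenInProjective
import Groth.Agent.H11Proj.ProjectiveProps
import Groth.Agent.H11Proj.QProjCriterion
import Groth.Agent.H11Ample.RelPullback
import Groth.Agent.S8910
import Groth.Agent.S9708

/-!
# Chow's lemma refined: the centre avoids a given quasi-projective open
-/

set_option autoImplicit false
set_option linter.style.haveILetI false
set_option backward.isDefEq.respectTransparency false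
set_option maxHeartbeats 1000000

universe u

open AlgebraicGeometry CategoryTheory Limits TopologicalSpace

namespace Groth.Agent.H8Props.AdmBlow

open H7Flat.Flatten

/-- A closed subscheme of a projective scheme is projective. -/
theorem isProjective_comp_closedImmersion {Z P S : Scheme.{u}} [CompactSpace S] [QuasiSeparatedSpace S]
    (i : Z ⟶ P) [IsClosedImmersion i] {g : P ⟶ S} (hg : RelProj.IsProjective g) :
    RelProj.IsProjective (i ≫ g) := by
  haveI := H11Proj.isProper_of_isProjective hg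
  obtain ⟨-, -, L, hL⟩ := H11Proj.isQuasiProjective_of_isProjective hg
  exact H11Proj.isProjective_of_isRelAmple
    (H11Ample.isRelAmple_pullback_of_isQuasiAffine (H11Ample.isQuasiAffineHom_of_isEmbedding i
      i.isClosedEmbedding.isEmbedding) hL)

theorem exists_projective_blowUp {X S : Scheme.{u}} [CompactSpace S] [QuasiSeparatedSpace S]
    (f : X ⟶ S) [IsSeparated f] [QuasiCompact f] [LocallyOfFiniteType f]
    (U : X.Opens) (hU : IsCompact (U : Set X)) (hq : RelProj.IsQuasiProjective (U.ι ≫ f)) :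
    ∃ (𝓘 : X.IdealSheafData) (X' P : Scheme.{u}) (q : X' ⟶ X) (j : X' ⟶ P) (g : P ⟶ S),
      BlowUp.IsBlowUp q 𝓘 ∧ BlowUp.IsAdmissibleFor U 𝓘 ∧ RelProj.IsProjective g ∧
      IsOpenImmersion j ∧ IsDominant j ∧ j ≫ g = q ≫ f := by
  haveI : CompactSpace X := QuasiCompact.compactSpace_of_compactSpace f
  haveI : QuasiSeparatedSpace X := quasiSeparatedSpace_of_quasiSeparated f
  haveI : CompactSpace (U : Scheme.{u}) := isCompact_iff_compactSpace.mp hU
  obtain ⟨P₀, u, g₀, hu, hg₀, hug⟩ := H17.OpenInProj.exists_open_in_projective hq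
  haveI := hu
  haveI := H11Proj.isProper_of_isProjective hg₀
  haveI : CompactSpace P₀ := QuasiCompact.compactSpace_of_compactSpace g₀
  haveI : QuasiSeparatedSpace P₀ := quasiSeparatedSpace_of_quasiSeparated g₀
  haveI : QuasiCompact u := QuasiCompact.of_comp u (terminal.from _)
  obtain ⟨I₁, Y', b, hb, hI₁, haway, V', hle, h, hh, hhg, k, hk, hkh⟩ :=
    exists_dominating_blowup f U hU u g₀ hug
  haveI := isProper_blowUp hI₁.1 hb
  haveI : CompactSpace Y' := QuasiCompact.compactSpace_of_compactSpace b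
  haveI : QuasiSeparatedSpace Y' := quasiSeparatedSpace_of_quasiSeparated b
  haveI := hh
  haveI : CompactSpace (V' : Scheme.{u}) := QuasiCompact.compactSpace_of_compactSpace h
  -- the section over `U`
  haveI : IsIso (b ∣_ u.opensRange) := H29Blow.isIso_morphismRestrict hb _ fun x hx => haway.ge hx
  haveI : IsIso k := by
    have e : k = (b ∣_ u.opensRange) ≫ u.isoOpensRange.inv := by
      rw [← cancel_mono u, hk, Category.assoc, Scheme.Hom.isoOpensRange_inv_comp]
    rw [e]
    infer_instance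
  let σ : (U : Scheme.{u}) ⟶ V' := inv k ≫ Y'.homOfLE hle
  have hσ : σ ≫ h = U.ι := by rw [Category.assoc, hkh, IsIso.inv_hom_id_assoc]
  have hO : IsCompact ((b ⁻¹ᵁ u.opensRange : Y'.Opens) : Set Y') := b.isCompact_preimage (isCompact_range u.continuous)
  haveI : QuasiCompact (b ⁻¹ᵁ u.opensRange).ι := H11Strict.quasiCompact_ι _ hO
  haveI : QuasiSeparatedSpace (V' : Scheme.{u}) := quasiSeparatedSpace_of_quasiSeparated h
  haveI : IsSchemeTheoreticallyDominant ((b ⁻¹ᵁ u.opensRange).ι) := by
    rw [← haway, ← H18HTop.awayFrom_comap]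
    exact schDominant_awayFrom hb.1
  haveI : IsSchemeTheoreticallyDominant (Y'.homOfLE hle) := by
    refine IsSchemeTheoreticallyDominant.of_isPullback (f := (b ⁻¹ᵁ u.opensRange).ι) (g := V'.ι) (pX := 𝟙 _) ?_
    refine ⟨⟨by rw [Category.id_comp, Scheme.homOfLE_ι]⟩, ⟨PullbackCone.IsLimit.mk _ (fun s => s.fst)
      (fun s => Category.comp_id _) (fun s => ?_) fun s m hm₁ _ => (Category.comp_id m).symm.trans hm₁⟩⟩
    rw [← cancel_mono V'.ι, Category.assoc, Scheme.homOfLE_ι]
    exact s.condition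
  haveI : IsSchemeTheoreticallyDominant σ := inferInstance
  haveI : QuasiCompact σ := QuasiCompact.of_comp σ (terminal.from _)
  haveI : IsIso (h ∣_ U) := isIso_restrict_of_dominant σ h U.ι hσ (O := U) (Scheme.Opens.opensRange_ι U)
  obtain ⟨I, X', q, hq', hI, hawayI, h', hh'⟩ := exists_iso_blowup h U hU
  haveI : IsIso (h ∣_ HTop.awayFrom I) := by rw [hawayI]; infer_instance
  have hblow := isBlowUp_dominating h hq' h' hh'
  have hadm : BlowUp.IsAdmissibleFor (V'.ι ⁻¹ᵁ (b ⁻¹ᵁ u.opensRange)) (I.comap h) := by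
    refine ⟨H11Strict.isFiniteTypeIdeal_comap _ hI.1, ?_⟩
    rw [Scheme.IdealSheafData.support_comap]
    refine Set.disjoint_left.mpr fun v hv hvO => Set.disjoint_left.mp hI.2 hv ?_
    show h v ∈ U
    have e : v = Y'.homOfLE hle ⟨V'.ι v, hvO⟩ := by
      refine V'.ι.isOpenEmbedding.injective ?_
      rw [← Scheme.Hom.comp_apply (Y'.homOfLE hle), Scheme.homOfLE_ι]
      rfl
    rw [e, ← Scheme.Hom.comp_apply (Y'.homOfLE hle), hkh, Scheme.Hom.comp_apply]
    exact (k ⟨V'.ι v, hvO⟩).2
  obtain ⟨J, Y'', c, o, hc, hJ, ho, hpb⟩ := exists_blowup_extension V'.ι (b ⁻¹ᵁ u.opensRange) hO _ hadm h' hblow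
  haveI := ho
  haveI := isProper_blowUp hJ.1 hc
  haveI := isProper_blowUp hI.1 hq'
  haveI : CompactSpace X' := QuasiCompact.compactSpace_of_compactSpace q
  haveI : CompactSpace Y'' := QuasiCompact.compactSpace_of_compactSpace c
  haveI : QuasiSeparatedSpace Y'' := quasiSeparatedSpace_of_quasiSeparated c
  haveI : QuasiCompact o := QuasiCompact.of_comp o (terminal.from _)
  haveI : QuasiCompact (o.toImage ≫ o.imageι) := by rw [o.toImage_imageι]; infer_instance
  haveI : IsSchemeTheoreticallyDominant o.toImage := ⟨H17.ker_toImage o⟩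
  have hproj : RelProj.IsProjective (c ≫ b ≫ g₀) :=
    S9708.result c (b ≫ g₀) (S8910.result J hJ.1 c hc) (S9708.result b g₀ (S8910.result I₁ hI₁.1 b hb) hg₀)
  refine ⟨I, X', o.image, q, o.toImage, o.imageι ≫ c ≫ b ≫ g₀, hq', hI,
    isProjective_comp_closedImmersion o.imageι hproj, inferInstance, inferInstance, ?_⟩
  rw [o.toImage_imageι_assoc, ← Category.assoc o c, hpb.w, Category.assoc, ← hhg, ← Category.assoc, hh']

end Groth.Agent.H8Props.AdmBlow
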