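import Groth.Agent.H7Flat.Flatten.Common

/-!
# Two birational morphisms become open immersions after admissible blow-ups
-/

set_option autoImplicit false
set_option linter.style.haveILetI false
set_option backward.isDefEq.respectTransparency false
set_option maxHeartbeats 1000000

universe u

open AlgebraicGeometry CategoryTheory Limits TopologicalSpace

namespace Groth.Agent.H8Props.AdmBlow

open H7Flat.Flatten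

/-- The image of an open on which a morphism is an open immersion. -/
noncomputable def imageOpen {X Y : Scheme.{u}} (f : X ⟶ Y) (U₀ : Y.Opens) [IsIso (f ∣_ U₀)] (U : X.Opens) : Y.Opens :=
  U₀.ι ''ᵁ ((inv (f ∣_ U₀)) ⁻¹ᵁ ((f ⁻¹ᵁ U₀).ι ⁻¹ᵁ U))

theorem restrict_apply {X Y : Scheme.{u}} (f : X ⟶ Y) (U₀ : Y.Opens) (w : (f ⁻¹ᵁ U₀ : X.Opens).toScheme) :
    U₀.ι ((f ∣_ U₀) w) = f ((f ⁻¹ᵁ U₀).ι w) := by
  rw [← Scheme.Hom.comp_apply, morphismRestrict_ι]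
  rfl

theorem mem_imageOpen_iff {X Y : Scheme.{u}} (f : X ⟶ Y) (U₀ : Y.Opens) [IsIso (f ∣_ U₀)] (U : X.Opens)
    (hle : U ≤ f ⁻¹ᵁ U₀) (x : X) : f x ∈ imageOpen f U₀ U ↔ x ∈ U := by
  constructor
  · rintro ⟨w, hw, hwx⟩
    have hx : x ∈ f ⁻¹ᵁ U₀ := show f x ∈ U₀ from hwx ▸ w.2
    have e : w = (f ∣_ U₀) ⟨x, hx⟩ := by
      refine U₀.ι.isOpenEmbedding.injective (hwx.trans ?_)
      rw [← Scheme.Hom.comp_apply, morphismRestrict_ι]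
      rfl
    subst e
    have h1 : (inv (f ∣_ U₀)) ((f ∣_ U₀) ⟨x, hx⟩) = ⟨x, hx⟩ := by
      rw [← Scheme.Hom.comp_apply, IsIso.hom_inv_id]; rfl
    have h2 := hw
    change (f ⁻¹ᵁ U₀).ι ((inv (f ∣_ U₀)) ((f ∣_ U₀) ⟨x, hx⟩)) ∈ U at h2
    rw [h1] at h2
    exact h2
  · intro hx
    refine ⟨(f ∣_ U₀) ⟨x, hle hx⟩, ?_, ?_⟩
    · show (f ⁻¹ᵁ U₀).ι ((inv (f ∣_ U₀)) ((f ∣_ U₀) ⟨x, hle hx⟩)) ∈ U
      rw [← Scheme.Hom.comp_apply (f ∣_ U₀), IsIso.hom_inv_id]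
      exact hx
    · exact restrict_apply f U₀ ⟨x, hle hx⟩

theorem preimage_imageOpen {X Y : Scheme.{u}} (f : X ⟶ Y) (U₀ : Y.Opens) [IsIso (f ∣_ U₀)] (U : X.Opens)
    (hle : U ≤ f ⁻¹ᵁ U₀) : f ⁻¹ᵁ imageOpen f U₀ U = U :=
  Opens.ext (Set.ext (mem_imageOpen_iff f U₀ U hle))

theorem imageOpen_le {X Y : Scheme.{u}} (f : X ⟶ Y) (U₀ : Y.Opens) [IsIso (f ∣_ U₀)] (U : X.Opens) :
    imageOpen f U₀ U ≤ U₀ := by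
  rintro _ ⟨w, -, rfl⟩
  exact w.2

theorem coe_imageOpen {X Y : Scheme.{u}} (f : X ⟶ Y) (U₀ : Y.Opens) [IsIso (f ∣_ U₀)] (U : X.Opens)
    (hle : U ≤ f ⁻¹ᵁ U₀) : (imageOpen f U₀ U : Set Y) = (fun x => f x) '' (U : Set X) := by
  refine Set.Subset.antisymm (fun y hy => ?_) ?_
  · obtain ⟨w, hw⟩ := (f ∣_ U₀).surjective ⟨y, imageOpen_le f U₀ U hy⟩
    have h1 : f ((f ⁻¹ᵁ U₀).ι w) = y := (restrict_apply f U₀ w).symm.trans (congrArg U₀.ι hw)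
    exact ⟨(f ⁻¹ᵁ U₀).ι w, (mem_imageOpen_iff f U₀ U hle _).1 (h1.symm ▸ hy), h1⟩
  · rintro _ ⟨x, hx, rfl⟩
    exact (mem_imageOpen_iff f U₀ U hle x).2 hx

theorem isCompact_imageOpen {X Y : Scheme.{u}} (f : X ⟶ Y) (U₀ : Y.Opens) [IsIso (f ∣_ U₀)] (U : X.Opens)
    (hle : U ≤ f ⁻¹ᵁ U₀) (hU : IsCompact (U : Set X)) : IsCompact (imageOpen f U₀ U : Set Y) := by
  rw [coe_imageOpen f U₀ U hle]
  exact hU.image f.continuous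

theorem isIso_restrict_imageOpen {X Y : Scheme.{u}} (f : X ⟶ Y) (U₀ : Y.Opens) [IsIso (f ∣_ U₀)] (U : X.Opens) :
    IsIso (f ∣_ imageOpen f U₀ U) :=
  property_restrict_mono (P := MorphismProperty.isomorphisms Scheme) f (imageOpen_le f U₀ U)
    (inferInstanceAs (IsIso (f ∣_ U₀)))

theorem exists_openImmersions_of_two
    {X Y₁ Y₂ : Scheme.{u}} [CompactSpace X] [QuasiSeparatedSpace X]
    [CompactSpace Y₁] [QuasiSeparatedSpace Y₁] [CompactSpace Y₂] [QuasiSeparatedSpace Y₂]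
    (π₁ : X ⟶ Y₁) (π₂ : X ⟶ Y₂)
    [IsSeparated π₁] [QuasiCompact π₁] [LocallyOfFiniteType π₁]
    [IsSeparated π₂] [QuasiCompact π₂] [LocallyOfFiniteType π₂]
    (O₁ : Y₁.Opens) (O₂ : Y₂.Opens) (hO₁ : IsCompact (O₁ : Set Y₁)) (hO₂ : IsCompact (O₂ : Set Y₂))
    [IsIso (π₁ ∣_ O₁)] [IsIso (π₂ ∣_ O₂)] (U : X.Opens) (h₁ : π₁ ⁻¹ᵁ O₁ = U) (h₂ : π₂ ⁻¹ᵁ O₂ = U) :
    ∃ (𝓘 : X.IdealSheafData) (𝓙₁ : Y₁.IdealSheafData) (𝓙₂ : Y₂.IdealSheafData)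
      (Xt Yt₁ Yt₂ : Scheme.{u}) (b : Xt ⟶ X) (c₁ : Yt₁ ⟶ Y₁) (c₂ : Yt₂ ⟶ Y₂) (j₁ : Xt ⟶ Yt₁) (j₂ : Xt ⟶ Yt₂),
      BlowUp.IsBlowUp b 𝓘 ∧ BlowUp.IsAdmissibleFor U 𝓘 ∧
      BlowUp.IsBlowUp c₁ 𝓙₁ ∧ BlowUp.IsAdmissibleFor O₁ 𝓙₁ ∧
      BlowUp.IsBlowUp c₂ 𝓙₂ ∧ BlowUp.IsAdmissibleFor O₂ 𝓙₂ ∧
      IsOpenImmersion j₁ ∧ IsOpenImmersion j₂ ∧ j₁ ≫ c₁ = b ≫ π₁ ∧ j₂ ≫ c₂ = b ≫ π₂ := by
  obtain ⟨I₁, Y₁', q₁, hq₁, hI₁, -, hopen₁⟩ := exists_openImmersion_blowup π₁ O₁ hO₁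
  obtain ⟨I₂, Y₂', q₂, hq₂, hI₂, -, hopen₂⟩ := exists_openImmersion_blowup π₂ O₂ hO₂
  haveI := isProper_blowUp hI₁.1 hq₁
  haveI := isProper_blowUp hI₂.1 hq₂
  have hp₁ := IsPullback.of_hasPullback π₁ q₁
  have hp₂ := IsPullback.of_hasPullback π₂ q₂
  let s₁ := (HTop.supportedOn ((I₁.comap π₁).comap (pullback.fst π₁ q₁))).subschemeι
  let s₂ := (HTop.supportedOn ((I₂.comap π₂).comap (pullback.fst π₂ q₂))).subschemeι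
  let J : X.IdealSheafData := I₁.comap π₁ * I₂.comap π₂
  have hadm : ∀ {Y : Scheme.{u}} (π : X ⟶ Y) (O : Y.Opens) (I : Y.IdealSheafData),
      π ⁻¹ᵁ O = U → BlowUp.IsAdmissibleFor O I → BlowUp.IsAdmissibleFor U (I.comap π) := fun π O I h hI => by
    refine ⟨H11Strict.isFiniteTypeIdeal_comap _ hI.1, ?_⟩
    rw [Scheme.IdealSheafData.support_comap, ← h]
    exact Set.disjoint_left.mpr fun x hx hxU => Set.disjoint_left.mp hI.2 hx hxU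
  have hJ : BlowUp.IsAdmissibleFor U J := by
    refine ⟨H11Strict.isFiniteTypeIdeal_mul (hadm π₁ O₁ I₁ h₁ hI₁).1 (hadm π₂ O₂ I₂ h₂ hI₂).1, ?_⟩
    rw [Scheme.IdealSheafData.support_mul, Closeds.coe_sup]
    exact Disjoint.union_left (hadm π₁ O₁ I₁ h₁ hI₁).2 (hadm π₂ O₂ I₂ h₂ hI₂).2
  obtain ⟨Xt, b, hb⟩ := H26Blow.exists_isBlowUp J
  obtain ⟨t₁, ht₁, ht₁'⟩ := H11Strict.isBlowUp_of_factor (I := I₁.comap π₁) (J := I₂.comap π₂) (c := b)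
    (isBlowUp_strict hp₁ hq₁) hb
  obtain ⟨t₂, ht₂, ht₂'⟩ := H11Strict.isBlowUp_of_factor (I := I₂.comap π₂) (J := I₁.comap π₁) (c := b)
    (isBlowUp_strict hp₂ hq₂) (by rw [mul_comm]; exact hb)
  haveI : IsOpenImmersion (s₁ ≫ pullback.snd π₁ q₁) := hopen₁ _ _ _ hp₁
  haveI : IsOpenImmersion (s₂ ≫ pullback.snd π₂ q₂) := hopen₂ _ _ _ hp₂
  haveI : CompactSpace ↥(HTop.supportedOn ((I₁.comap π₁).comap (pullback.fst π₁ q₁))).subscheme :=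
    QuasiCompact.compactSpace_of_compactSpace (s₁ ≫ pullback.fst π₁ q₁)
  haveI : CompactSpace ↥(HTop.supportedOn ((I₂.comap π₂).comap (pullback.fst π₂ q₂))).subscheme :=
    QuasiCompact.compactSpace_of_compactSpace (s₂ ≫ pullback.fst π₂ q₂)
  obtain ⟨K₁, Yt₁, c₁, j₁, hc₁, hK₁, hj₁, hjc₁⟩ := exists_side (𝟙 Y₁) π₁ O₁ hO₁ q₁ hq₁ hI₁
    (s₁ ≫ pullback.fst π₁ q₁) (s₁ ≫ pullback.snd π₁ q₁)
    (by rw [Category.assoc, pullback.condition, Category.assoc]) J (h₁ ▸ hJ) t₁ ht₁' b ht₁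
  obtain ⟨K₂, Yt₂, c₂, j₂, hc₂, hK₂, hj₂, hjc₂⟩ := exists_side (𝟙 Y₂) π₂ O₂ hO₂ q₂ hq₂ hI₂
    (s₂ ≫ pullback.fst π₂ q₂) (s₂ ≫ pullback.snd π₂ q₂)
    (by rw [Category.assoc, pullback.condition, Category.assoc]) J (h₂ ▸ hJ) t₂
    (by rw [mul_comm (I₂.comap π₂)] at ht₂'; exact ht₂') b ht₂
  exact ⟨J, K₁, K₂, Xt, Yt₁, Yt₂, b, c₁, c₂, j₁, j₂, hb, hJ, hc₁, hK₁, hc₂, hK₂, hj₁, hj₂, hjc₁, hjc₂⟩

end Groth.Agent.H8Props.AdmBlow
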